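-- helper30: core of piece (C5) of helper71's S3282 farm: a normal Sylow `p`-subgroup of a subgroup `L` from a normal
-- subgroup `N` of odd order and 2-power index all of whose odd-order normalizing elements centralize.
import Mathlib

set_option autoImplicit false

namespace Cfsg.Agent.Helper30.BSW

theorem normal_sylow_of_odd_normal {G : Type*} [Group G] [Finite G] (p : ℕ) [Fact p.Prime] (hp2 : p ≠ 2)
    (L : Subgroup G) (N : Subgroup L) (hN : N.Normal) (hNodd : Odd (Nat.card N)) (n : ℕ)
    (hNidx : N.index = 2 ^ n)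
    (hC2N : (∀ ℓ : ℕ, ∀ _ : Fact ℓ.Prime, ℓ ≠ p → ∀ A : Sylow ℓ N,
        Subgroup.normalizer ((A : Subgroup N) : Set N) ≤ Subgroup.centralizer ((A : Subgroup N) : Set N)) →
      ∃ M : Sylow p N, (M : Subgroup N).Normal)
    (h_odd : ∀ ℓ : ℕ, ℓ.Prime → ℓ ≠ 2 → ℓ ≠ p → ∀ A : Subgroup G,
      IsPGroup ℓ A → ∀ g ∈ Subgroup.normalizer (A : Set G), Odd (orderOf g) →
      g ∈ Subgroup.centralizer (A : Set G)) :
    ∃ M : Sylow p L, (M : Subgroup L).Normal := by
  classical
  let ι : N →* G := L.subtype.comp N.subtype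
  have hι : Function.Injective ι := L.subtype_injective.comp N.subtype_injective
  obtain ⟨M₀, hM₀⟩ := hC2N (by
    intro ℓ hℓ hℓp A g hg
    by_cases hℓ2 : ℓ = 2
    · subst hℓ2
      have hA : (A : Subgroup N) = ⊥ := by
        have h1 : Nat.card (A : Subgroup N) ∣ Nat.card N := Subgroup.card_subgroup_dvd_card _
        obtain ⟨k, hk⟩ := A.2.exists_card_eq
        have hk0 : k = 0 := by
          by_contra hk0
          have h2 : 2 ∣ Nat.card N := (dvd_pow_self 2 hk0).trans (hk ▸ h1)
          exact (Nat.not_even_iff_odd.mpr hNodd) (even_iff_two_dvd.mpr h2)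
        rw [hk0, pow_zero] at hk
        exact Subgroup.card_eq_one.mp hk
      rw [hA, Subgroup.mem_centralizer_iff]
      intro a ha
      have : a = 1 := Subgroup.mem_bot.mp ha
      rw [this, one_mul, mul_one]
    · have hA' : IsPGroup ℓ ((A : Subgroup N).map ι) := A.2.map ι
      have hnorm : ι g ∈ Subgroup.normalizer (((A : Subgroup N).map ι : Subgroup G) : Set G) :=
        Subgroup.le_normalizer_map ι (Subgroup.mem_map_of_mem ι hg)
      have hodd : Odd (orderOf (ι g)) := by
        rw [orderOf_injective ι hι g]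
        exact Odd.of_dvd_nat hNodd (orderOf_dvd_natCard g)
      have hcen := h_odd ℓ hℓ.out hℓ2 hℓp _ hA' (ι g) hnorm hodd
      rw [Subgroup.mem_centralizer_iff] at hcen ⊢
      intro a ha
      apply hι
      rw [map_mul, map_mul]
      exact hcen (ι a) (Subgroup.mem_map_of_mem ι ha))
  have hchar : (M₀ : Subgroup N).Characteristic := Sylow.characteristic_of_normal M₀ hM₀
  have hM₁n : ((M₀ : Subgroup N).map N.subtype).Normal :=
    @ConjAct.normal_of_characteristic_of_normal _ _ N hN _ hchar
  have hM₁p : IsPGroup p ((M₀ : Subgroup N).map N.subtype) := M₀.2.map _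
  have hidx : ¬ p ∣ ((M₀ : Subgroup N).map N.subtype).index := by
    rw [Subgroup.index_map_subtype, hNidx]
    intro h
    rcases (Nat.Prime.dvd_mul (Fact.out : p.Prime)).mp h with h | h
    · exact M₀.not_dvd_index h
    · have h3 : p ∣ 2 := (Fact.out : p.Prime).dvd_of_dvd_pow h
      exact hp2 ((Nat.prime_dvd_prime_iff_eq (Fact.out : p.Prime) Nat.prime_two).mp h3)
  refine ⟨hM₁p.toSylow hidx, ?_⟩
  rw [IsPGroup.toSylow_coe]
  exact hM₁n

end Cfsg.Agent.Helper30.BSW
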