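-- helper30: piece (C5) of helper71's S3282 farm (#10915): every p-local subgroup has a normal Sylow p-subgroup.
import Mathlib
import Cfsg.Agent.Helper71.BSW.Defs
import Cfsg.Agent.Helper30.BSW.C5Core
import Cfsg.Agent.Helper60.BSW.C2
import Cfsg.Agent.Helper68.BSW.C4

set_option autoImplicit false

namespace Cfsg.Agent.Helper30.BSW

open Cfsg.Agent.Helper71.BSW

theorem c_local_normal_sylow {G : Type*} [Group G] [Finite G] {t s : G} {K : Subgroup G} {q d : ℕ}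
    (c : Ctx t s K q d) (A1 : FactsA1 t s K)
    (h_arith : Odd q ∧ Odd d ∧ q.Coprime (2 * Nat.card K) ∧ d.Coprime (2 * Nat.card K) ∧ q.Coprime d ∧
      q ^ 2 = 4 * Nat.card K * d + 1 ∧ 3 ≤ d ∧ 7 ≤ q)
    (h_odd : ∀ ℓ : ℕ, ℓ.Prime → ℓ ≠ 2 → ¬ ℓ ∣ q → ∀ A : Subgroup G,
    IsPGroup ℓ A → ∀ g ∈ Subgroup.normalizer (A : Set G), Odd (orderOf g) →
      g ∈ Subgroup.centralizer (A : Set G))
    {p f : ℕ} [Fact p.Prime] (hq : q = p ^ f)
    (U : Subgroup G) (hU : IsPGroup p U) (hU1 : U ≠ ⊥) :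
    ∃ M : Sylow p ↥(Subgroup.normalizer (U : Set G)),
      (M : Subgroup ↥(Subgroup.normalizer (U : Set G))).Normal := by
  obtain ⟨hqodd, -, hqk, -, -, -, -, hq7⟩ := h_arith
  have hp : p.Prime := Fact.out
  have hf : f ≠ 0 := by
    rintro rfl
    rw [pow_zero] at hq
    omega
  have hpq : p ∣ q := hq ▸ dvd_pow_self p hf
  have hp2 : p ≠ 2 := by
    rintro rfl
    exact (Nat.not_even_iff_odd.mpr hqodd) (even_iff_two_dvd.mpr hpq)
  have hcop : (Nat.card U).Coprime (2 * Nat.card K) := by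
    obtain ⟨m, hm⟩ := hU.exists_card_eq
    rw [hm]
    apply Nat.Coprime.pow_left
    exact Nat.Coprime.coprime_dvd_left hpq hqk
  have hcyc := A1.local_sylow_two_cyclic U hU1 hcop
  obtain ⟨N, hN, hNodd, n, hNidx⟩ := Cfsg.Agent.Helper68.BSW.normal_two_complement_of_cyclic hcyc
  refine normal_sylow_of_odd_normal p hp2 _ N hN hNodd n hNidx
    (Cfsg.Agent.Helper60.BSW.normal_sylow_of_transfer p) ?_
  intro ℓ hℓ hℓ2 hℓp A hA g hg hgo
  refine h_odd ℓ hℓ hℓ2 ?_ A hA g hg hgo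
  intro h
  rw [hq] at h
  exact hℓp ((Nat.prime_dvd_prime_iff_eq hℓ hp).mp (hℓ.dvd_of_dvd_pow h))

end Cfsg.Agent.Helper30.BSW
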